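/-
Binary self-orthogonal codes of length 24, dimension 12 and minimum weight 8.
-/
import Cfsg.Prelude.Def_Sporadic_a

set_option autoImplicit false

namespace CfsgLib.Code24

open Cfsg

/-- A binary word of length 24. -/
abbrev Word := Fin 24 → ZMod 2

theorem zmod2_cases (a : ZMod 2) : a = 0 ∨ a = 1 := by revert a; decide

theorem zmod2_self (a : ZMod 2) : a + a = 0 := by revert a; decide

theorem supp_add (u v : Word) : support₂ (u + v) = symmDiff (support₂ u) (support₂ v) := by
  ext i
  simp only [support₂, Finset.mem_symmDiff, Finset.mem_filter, Finset.mem_univ, true_and,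
    Pi.add_apply]
  rcases zmod2_cases (u i) with e | e <;> rcases zmod2_cases (v i) with e' | e' <;>
    simp [e, e', zmod2_self]

theorem sub_eq_add' (u v : Word) : u - v = u + v := by
  funext i
  simp only [Pi.sub_apply, Pi.add_apply]
  generalize u i = a
  generalize v i = b
  revert a b; decide

theorem norm_eq (u : Word) : hammingNorm u = (support₂ u).card := rfl

theorem norm_add (u v : Word) :
    hammingNorm (u + v) + 2 * (support₂ u ∩ support₂ v).card = hammingNorm u + hammingNorm v := by
  rw [norm_eq, norm_eq, norm_eq, supp_add,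
    show symmDiff (support₂ u) (support₂ v) =
      (support₂ u \ support₂ v) ∪ (support₂ v \ support₂ u) from rfl,
    Finset.card_union_of_disjoint disjoint_sdiff_sdiff]
  have h1 := Finset.card_sdiff_add_card_inter (support₂ u) (support₂ v)
  have h2 := Finset.card_sdiff_add_card_inter (support₂ v) (support₂ u)
  rw [Finset.inter_comm (support₂ v) (support₂ u)] at h2
  omega

theorem supp_injective : Function.Injective (support₂ : Word → Finset (Fin 24)) := by
  intro u v h
  funext i
  have := Finset.ext_iff.mp h i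
  simp only [support₂, Finset.mem_filter, Finset.mem_univ, true_and] at this
  rcases zmod2_cases (u i) with e | e <;> rcases zmod2_cases (v i) with e' | e' <;>
    simp_all

/-- The indicator word of a set. -/
def ind (s : Finset (Fin 24)) : Word := fun i => if i ∈ s then 1 else 0

theorem supp_ind (s : Finset (Fin 24)) : support₂ (ind s) = s := by
  ext i
  by_cases h : i ∈ s <;> simp [support₂, ind, h]

theorem norm_ind (s : Finset (Fin 24)) : hammingNorm (ind s) = s.card := by rw [norm_eq, supp_ind]

theorem card_norm (k : ℕ) :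
    (Finset.univ.filter fun u : Word => hammingNorm u = k).card = Nat.choose 24 k := by
  rw [← Finset.card_image_of_injective _ supp_injective]
  rw [show (Finset.univ.filter fun u : Word => hammingNorm u = k).image support₂ =
    Finset.univ.powersetCard k from ?_, Finset.card_powersetCard, Finset.card_univ, Fintype.card_fin]
  ext s
  simp only [Finset.mem_image, Finset.mem_filter, Finset.mem_univ, true_and,
    Finset.mem_powersetCard, Finset.subset_univ]
  constructor
  · rintro ⟨u, hu, rfl⟩; exact hu
  · intro hs; exact ⟨ind s, (norm_ind s).trans hs, supp_ind s⟩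

theorem card_norm_le_four :
    (Finset.univ.filter fun u : Word => hammingNorm u ≤ 4).card = 12951 ∧
      (Finset.univ.filter fun u : Word => hammingNorm u ≤ 3).card = 2325 := by
  have h : ∀ n, (Finset.univ.filter fun u : Word => hammingNorm u ≤ n).card =
      ∑ k ∈ Finset.range (n + 1), Nat.choose 24 k := fun n => by
    rw [Finset.card_eq_sum_card_fiberwise (f := fun u : Word => hammingNorm u)
      (t := Finset.range (n + 1)) (fun u hu => by
        simp only [Finset.coe_filter, Finset.mem_univ, true_and, Set.mem_ofPred_eq] at hu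
        exact Finset.mem_range.mpr (show hammingNorm u < n + 1 by omega))]
    refine Finset.sum_congr rfl fun k hk => ?_
    rw [Finset.filter_filter, ← card_norm k]
    refine congrArg Finset.card (Finset.filter_congr fun u _ => ?_)
    rw [Finset.mem_range] at hk
    omega
  rw [h, h]
  decide

/-- The hypotheses on the code. -/
structure Good (C : Submodule (ZMod 2) Word) : Prop where
  dim : Module.finrank (ZMod 2) C = 12
  orth : ∀ v ∈ C, ∀ w ∈ C, ∑ i, v i * w i = 0
  low : ∀ w ∈ C, w ≠ 0 → 8 ≤ hammingNorm w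

variable {C : Submodule (ZMod 2) Word} (hC : Good C)
include hC

theorem card_quot : Nat.card (Word ⧸ C) = 4096 := by
  rw [Module.natCard_eq_pow_finrank (K := ZMod 2)]
  have h := Submodule.finrank_quotient_add_finrank C
  rw [hC.dim, Module.finrank_fintype_fun_eq_card, Fintype.card_fin] at h
  rw [show Module.finrank (ZMod 2) (Word ⧸ C) = 12 by omega]
  simp

theorem eq_of_congr {u v : Word} (h : u - v ∈ C) (hne : u ≠ v) :
    8 + 2 * (support₂ u ∩ support₂ v).card ≤ hammingNorm u + hammingNorm v := by
  rw [sub_eq_add'] at h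
  have h0 : u + v ≠ 0 := by
    rw [← sub_eq_add']
    exact sub_ne_zero.mpr hne
  have := hC.low _ h h0
  have := norm_add u v
  omega

theorem disjoint_of_congr {u v : Word} (h : u - v ∈ C) (hne : u ≠ v) (hu : hammingNorm u ≤ 4)
    (hv : hammingNorm v ≤ 4) :
    hammingNorm u = 4 ∧ hammingNorm v = 4 ∧ Disjoint (support₂ u) (support₂ v) := by
  have := eq_of_congr hC h hne
  refine ⟨by omega, by omega, Finset.disjoint_iff_inter_eq_empty.mpr (Finset.card_eq_zero.mp ?_)⟩
  omega

/-- The short words congruent to a given one. -/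
noncomputable def leaders (C : Submodule (ZMod 2) Word) (q : Word ⧸ C) : Finset Word :=
  letI : DecidableEq (Word ⧸ C) := Classical.decEq _
  Finset.univ.filter fun u => hammingNorm u ≤ 4 ∧ Submodule.Quotient.mk u = q

omit hC in
theorem mem_leaders {q : Word ⧸ C} {u : Word} :
    u ∈ leaders C q ↔ hammingNorm u ≤ 4 ∧ Submodule.Quotient.mk u = q := by
  unfold leaders; simp

theorem leaders_congr {q : Word ⧸ C} {u v : Word} (hu : u ∈ leaders C q) (hv : v ∈ leaders C q) :
    u - v ∈ C :=
  (Submodule.Quotient.eq C).mp ((mem_leaders.mp hu).2.trans (mem_leaders.mp hv).2.symm)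

theorem leaders_card_le (q : Word ⧸ C) : (leaders C q).card ≤ 6 ∧
    ((∃ u ∈ leaders C q, hammingNorm u ≤ 3) → (leaders C q).card = 1) := by
  have hsingle : (∃ u ∈ leaders C q, hammingNorm u ≤ 3) → (leaders C q).card = 1 := by
    rintro ⟨u, hu, hu3⟩
    refine Finset.card_eq_one.mpr ⟨u, Finset.eq_singleton_iff_unique_mem.mpr ⟨hu, fun v hv => ?_⟩⟩
    by_contra hne
    have := disjoint_of_congr hC (leaders_congr hC hv hu) hne (mem_leaders.mp hv).1
      (mem_leaders.mp hu).1
    omega
  refine ⟨?_, hsingle⟩
  by_cases hs : ∃ u ∈ leaders C q, hammingNorm u ≤ 3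
  · rw [hsingle hs]; norm_num
  simp only [not_exists, not_and, not_le] at hs
  have h4 : ∀ u ∈ leaders C q, (support₂ u).card = 4 := fun u hu => by
    have := hs u hu; have := (mem_leaders.mp hu).1; rw [← norm_eq]; omega
  have hd : ((leaders C q : Finset Word) : Set Word).PairwiseDisjoint fun u => support₂ u :=
    fun u hu v hv hne =>
      (disjoint_of_congr hC (leaders_congr hC hu hv) hne (mem_leaders.mp hu).1
        (mem_leaders.mp hv).1).2.2
  have h := Finset.card_biUnion hd
  rw [Finset.sum_const_nat h4] at h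
  have := Finset.card_le_univ ((leaders C q).biUnion fun u => support₂ u)
  rw [Fintype.card_fin] at this
  omega

theorem leaders_exact (q : Word ⧸ C) : (∃ u, leaders C q = {u} ∧ hammingNorm u ≤ 3) ∨
    ((leaders C q).card = 6 ∧ ∀ u ∈ leaders C q, hammingNorm u = 4 ∧
      ∀ v ∈ leaders C q, u ≠ v → Disjoint (support₂ u) (support₂ v)) := by
  classical
  have := Fintype.ofFinite (Word ⧸ C)
  have hq : (Finset.univ : Finset (Word ⧸ C)).card = 4096 := by
    rw [Finset.card_univ, ← Nat.card_eq_fintype_card]; exact card_quot hC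
  set small := Finset.univ.filter fun p : Word ⧸ C => ∃ u ∈ leaders C p, hammingNorm u ≤ 3 with hsm
  have hinj : small.card = 2325 := by
    rw [← card_norm_le_four.2]
    refine (Finset.card_bij (fun u _ => (Submodule.Quotient.mk u : Word ⧸ C)) ?_ ?_ ?_).symm
    · intro u hu
      simp only [Finset.mem_filter, Finset.mem_univ, true_and] at hu
      exact Finset.mem_filter.mpr ⟨Finset.mem_univ _, u, mem_leaders.mpr ⟨by omega, rfl⟩, hu⟩
    · intro u hu v hv he
      simp only [Finset.mem_filter, Finset.mem_univ, true_and] at hu hv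
      by_contra hne
      have := disjoint_of_congr hC ((Submodule.Quotient.eq C).mp he) hne (by omega) (by omega)
      omega
    · intro p hp
      obtain ⟨u, hu, hu3⟩ := (Finset.mem_filter.mp hp).2
      exact ⟨u, by simp [hu3], (mem_leaders.mp hu).2⟩
  have htot : ∑ p : Word ⧸ C, (leaders C p).card = 12951 := by
    rw [← card_norm_le_four.1, Finset.card_eq_sum_card_fiberwise
      (f := fun u : Word => (Submodule.Quotient.mk u : Word ⧸ C)) (t := Finset.univ)
      (fun u _ => Finset.mem_univ _)]
    refine Finset.sum_congr rfl fun p _ => congrArg Finset.card ?_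
    ext u
    simp [mem_leaders]
  have hbound : ∀ p : Word ⧸ C, (leaders C p).card ≤ if p ∈ small then 1 else 6 := fun p => by
    split
    · rename_i h
      exact ((leaders_card_le hC p).2 (Finset.mem_filter.mp h).2).le
    · exact (leaders_card_le hC p).1
  have hb : ∑ p : Word ⧸ C, (if p ∈ small then 1 else 6) = 12951 := by
    rw [Finset.sum_ite, Finset.filter_mem_eq_inter, Finset.univ_inter,
      Finset.filter_not, Finset.filter_mem_eq_inter, Finset.univ_inter,
      Finset.sum_const, Finset.sum_const, Finset.card_sdiff_of_subset (Finset.subset_univ _), hinj]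
    simp [hq]
  have hall := (Finset.sum_eq_sum_iff_of_le fun p _ => hbound p).mp (htot.trans hb.symm) q
    (Finset.mem_univ q)
  by_cases h : q ∈ small
  · rw [if_pos h] at hall
    obtain ⟨u, hu, hu3⟩ := (Finset.mem_filter.mp h).2
    obtain ⟨a, ha⟩ := Finset.card_eq_one.mp hall
    rw [ha, Finset.mem_singleton] at hu
    exact Or.inl ⟨a, ha, hu ▸ hu3⟩
  · rw [if_neg h] at hall
    refine Or.inr ⟨hall, fun u hu => ⟨?_, fun v hv hne =>
      (disjoint_of_congr hC (leaders_congr hC hu hv) hne (mem_leaders.mp hu).1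
        (mem_leaders.mp hv).1).2.2⟩⟩
    have h1 := (mem_leaders.mp hu).1
    by_contra hne
    exact h (Finset.mem_filter.mpr ⟨Finset.mem_univ _, u, hu, by omega⟩)

omit hC in
theorem leaders_coe (w : Word) :
    {u : Word | u - w ∈ C ∧ hammingNorm u ≤ 4} =
      (leaders C (Submodule.Quotient.mk w) : Set Word) := by
  ext u
  simp only [Set.mem_ofPred_eq, Finset.mem_coe, mem_leaders]
  rw [Submodule.Quotient.eq]
  exact And.comm

theorem coset_leaders (w : Word) :
    (∃ u : Word, {u : Word | u - w ∈ C ∧ hammingNorm u ≤ 4} = {u} ∧ hammingNorm u ≤ 3) ∨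
      ({u : Word | u - w ∈ C ∧ hammingNorm u ≤ 4}.ncard = 6 ∧
        ∀ u ∈ {u : Word | u - w ∈ C ∧ hammingNorm u ≤ 4}, hammingNorm u = 4 ∧
          ∀ u' ∈ {u : Word | u - w ∈ C ∧ hammingNorm u ≤ 4}, u ≠ u' →
            Disjoint (support₂ u) (support₂ u')) := by
  rw [leaders_coe]
  rcases leaders_exact hC (Submodule.Quotient.mk w) with ⟨u, hu, hu3⟩ | ⟨h6, hall⟩
  · exact Or.inl ⟨u, by rw [hu, Finset.coe_singleton], hu3⟩
  · exact Or.inr ⟨by rw [Set.ncard_coe_finset, h6], fun u hu => hall u hu⟩

theorem even_norm {w : Word} (hw : w ∈ C) : 2 ∣ hammingNorm w := by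
  have h := hC.orth w hw w hw
  have hi : ∀ i, w i * w i = if w i ≠ 0 then 1 else 0 := fun i => by
    rcases zmod2_cases (w i) with e | e <;> rw [e] <;> rfl
  rw [Finset.sum_congr rfl fun i _ => hi i, Finset.sum_boole] at h
  exact (ZMod.natCast_eq_zero_iff_even (n := hammingNorm w)).mp h |>.two_dvd

theorem exists_octad (s : Finset (Fin 24)) (hs : s.card = 5) :
    ∃! b, b ∈ wordsOfWeight (C : Set Word) 8 ∧ s ⊆ b := by
  have key : ∃ w ∈ C, hammingNorm w = 8 ∧ s ⊆ support₂ w := by
    rcases leaders_exact hC (Submodule.Quotient.mk (ind s)) with ⟨u, hu, hu3⟩ | ⟨h6, hall⟩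
    · have hmem : u ∈ leaders C (Submodule.Quotient.mk (ind s)) := by rw [hu]; simp
      have hc := (Submodule.Quotient.eq C).mp (mem_leaders.mp hmem).2
      rw [sub_eq_add'] at hc
      have h0 : u + ind s ≠ 0 := by
        rw [← sub_eq_add', sub_ne_zero]
        intro e
        rw [e, norm_ind] at hu3
        omega
      have := hC.low _ hc h0
      have h1 := norm_add u (ind s)
      rw [norm_ind] at h1
      have hdis : (support₂ u ∩ support₂ (ind s)).card = 0 := by omega
      refine ⟨u + ind s, hc, by omega, fun i hi => ?_⟩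
      rw [supp_add, supp_ind, Finset.mem_symmDiff]
      rw [supp_ind] at hdis
      exact Or.inr ⟨hi, fun h => by
        have := Finset.card_eq_zero.mp hdis
        exact absurd (Finset.mem_inter.mpr ⟨h, hi⟩) (this ▸ Finset.notMem_empty i)⟩
    · exfalso
      obtain ⟨u, hu⟩ := Finset.card_pos.mp (show 0 < (leaders C _).card by rw [h6]; norm_num)
      have hc := (Submodule.Quotient.eq C).mp (mem_leaders.mp hu).2
      rw [sub_eq_add'] at hc
      have := even_norm hC hc
      have h1 := norm_add u (ind s)
      rw [(hall u hu).1, norm_ind, hs] at h1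
      omega
  obtain ⟨w, hw, hw8, hsw⟩ := key
  refine ⟨support₂ w, ⟨⟨⟨w, hw, rfl⟩, hw8⟩, hsw⟩, ?_⟩
  rintro b ⟨⟨⟨v, hv, rfl⟩, hv8⟩, hsv⟩
  by_contra hne
  have hne' : v ≠ w := fun e => hne (by rw [e])
  have h := eq_of_congr hC (C.sub_mem hv hw) hne'
  have h5 : 5 ≤ (support₂ v ∩ support₂ w).card :=
    hs ▸ Finset.card_le_card (Finset.subset_inter hsv hsw)
  rw [norm_eq v, hv8, hw8] at h
  omega

theorem steiner : IsSteinerSystem 5 8 (wordsOfWeight (C : Set Word) 8) :=
  ⟨fun _ hb => hb.2, exists_octad hC⟩

theorem exists_weight_eight : ∃ w ∈ C, hammingNorm w = 8 := by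
  obtain ⟨s, -, hs⟩ := Finset.exists_subset_card_eq (s := (Finset.univ : Finset (Fin 24))) (n := 5)
    (by simp)
  obtain ⟨b, ⟨⟨⟨w, hw, rfl⟩, hw8⟩, -⟩, -⟩ := exists_octad hC s hs
  exact ⟨w, hw, hw8⟩

theorem span_octads : Submodule.span (ZMod 2) {w : Word | w ∈ C ∧ hammingNorm w = 8} = C := by
  refine le_antisymm (Submodule.span_le.mpr fun w hw => hw.1) fun w hw => ?_
  induction hk : hammingNorm w using Nat.strong_induction_on generalizing w with
  | _ k ih =>
    by_cases hw0 : w = 0
    · subst hw0; exact Submodule.zero_mem _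
    have h8 := hC.low w hw hw0
    by_cases hk8 : k = 8
    · exact Submodule.subset_span ⟨hw, hk.trans hk8⟩
    obtain ⟨s, hsw, hs⟩ := Finset.exists_subset_card_eq
      (show 5 ≤ (support₂ w).card by rw [← norm_eq]; omega)
    obtain ⟨b, ⟨⟨⟨v, hv, rfl⟩, hv8⟩, hsv⟩, -⟩ := exists_octad hC s hs
    have h5 : 5 ≤ (support₂ w ∩ support₂ v).card :=
      hs ▸ Finset.card_le_card (Finset.subset_inter hsw hsv)
    have h1 := norm_add w v
    rw [norm_eq v, hv8] at h1
    have hlt : hammingNorm (w + v) < k := by omega
    have := ih _ hlt (w + v) (C.add_mem hw hv) rfl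
    have h2 : w = (w + v) + v := by rw [← sub_eq_add' (w + v) v, add_sub_cancel_right]
    rw [h2]
    exact Submodule.add_mem _ this (Submodule.subset_span ⟨hv, hv8⟩)

theorem doubly_even {w : Word} (hw : w ∈ C) : 4 ∣ hammingNorm w := by
  rw [← span_octads hC] at hw
  suffices h : 4 ∣ hammingNorm w ∧ w ∈ C from h.1
  induction hw using Submodule.span_induction with
  | mem v hv => exact ⟨by rw [hv.2]; norm_num, hv.1⟩
  | zero => exact ⟨by simp, C.zero_mem⟩
  | add u v _ _ hu hv =>
    refine ⟨?_, C.add_mem hu.2 hv.2⟩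
    have h := hC.orth u hu.2 v hv.2
    have hi : ∀ i, u i * v i = if u i ≠ 0 ∧ v i ≠ 0 then 1 else 0 := fun i => by
      rcases zmod2_cases (u i) with e | e <;> rcases zmod2_cases (v i) with e' | e' <;>
        simp [e, e']
    rw [Finset.sum_congr rfl fun i _ => hi i, Finset.sum_boole, Finset.filter_and] at h
    have heven : Even (support₂ u ∩ support₂ v).card :=
      (ZMod.natCast_eq_zero_iff_even).mp h
    obtain ⟨t, ht⟩ := heven
    have := norm_add u v
    obtain ⟨a, ha⟩ := hu.1
    obtain ⟨b, hb⟩ := hv.1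
    omega
  | smul a v _ hv =>
    rcases zmod2_cases a with e | e <;> subst e
    · rw [zero_smul]; exact ⟨by simp, C.zero_mem⟩
    · rw [one_smul]; exact hv

end CfsgLib.Code24
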