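/-
Coset representatives of the extended code and the punctured code of length 23.
-/
import Cfsg.Agent.Code24.SelfDual
import Cfsg.Agent.Golay.Steiner

set_option autoImplicit false

namespace CfsgLib.Code24

open Cfsg CfsgLib.Golay

/-- The positions. -/
def posEquiv : GolayPt ≃ Fin 24 where
  toFun p := ⟨idx p, idx_lt p⟩
  invFun i := pt i
  left_inv p := pt_idx p
  right_inv i := Fin.ext (idx_pt i i.2)

/-- Words indexed by positions. -/
def posMap : (GolayPt → ZMod 2) ≃ₗ[ZMod 2] Word :=
  LinearEquiv.funCongrLeft (ZMod 2) (ZMod 2) posEquiv.symm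

theorem posMap_apply (v : GolayPt → ZMod 2) (i : Fin 24) : posMap v i = v (posEquiv.symm i) := rfl

theorem supp_posMap (v : GolayPt → ZMod 2) :
    support₂ (posMap v) = (support₂ v).map posEquiv.toEmbedding := by
  ext i
  rw [Finset.mem_map_equiv]
  exact ⟨fun h => Finset.mem_filter.2 ⟨Finset.mem_univ _, (Finset.mem_filter.1 h).2⟩,
    fun h => Finset.mem_filter.2 ⟨Finset.mem_univ _, (Finset.mem_filter.1 h).2⟩⟩

theorem norm_posMap (v : GolayPt → ZMod 2) : hammingNorm (posMap v) = hammingNorm v := by
  rw [hammingNorm_eq, norm_eq, supp_posMap, Finset.card_map]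

/-- The extended code on positions. -/
def posCode : Submodule (ZMod 2) Word := golayCode.map posMap.toLinearMap

theorem mem_posCode (v : GolayPt → ZMod 2) : posMap v ∈ posCode ↔ v ∈ golayCode :=
  (Submodule.mem_map_equiv golayCode (e := posMap) (x := posMap v)).trans
    (by rw [LinearEquiv.symm_apply_apply])

theorem good_posCode : Good posCode := by
  refine ⟨by rw [posCode, LinearEquiv.finrank_map_eq, code_finrank], ?_, ?_⟩
  · intro v hv w hw
    obtain ⟨v, rfl⟩ := posMap.surjective v
    obtain ⟨w, rfl⟩ := posMap.surjective w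
    rw [mem_posCode] at hv hw
    rw [← dot_eq_zero hv hw]
    exact Equiv.sum_comp posEquiv.symm fun p => v p * w p
  · intro w hw h0
    obtain ⟨w, rfl⟩ := posMap.surjective w
    rw [mem_posCode] at hw
    rw [norm_posMap]
    have hne : hammingNorm w ≠ 0 := fun e => h0 (by rw [hammingNorm_eq_zero.1 e, map_zero])
    rcases hammingNorm_mem w hw with e | e | e | e | e <;> omega

theorem leaders_pull (w : GolayPt → ZMod 2) :
    {v : GolayPt → ZMod 2 | hammingNorm v ≤ 4 ∧ w - v ∈ golayCode} =
      posMap ⁻¹' {u : Word | u - posMap w ∈ posCode ∧ hammingNorm u ≤ 4} := by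
  ext v
  simp only [Set.mem_preimage, Set.mem_ofPred_eq, norm_posMap, ← map_sub, mem_posCode]
  rw [← Submodule.neg_mem_iff golayCode, neg_sub, and_comm]

theorem golay_leaders (w : GolayPt → ZMod 2) :
    ({v : GolayPt → ZMod 2 | hammingNorm v ≤ 4 ∧ w - v ∈ golayCode}.ncard = 1 ∧
      ∃ v : GolayPt → ZMod 2, hammingNorm v ≤ 3 ∧ w - v ∈ golayCode) ∨
    ({v : GolayPt → ZMod 2 | hammingNorm v ≤ 4 ∧ w - v ∈ golayCode}.ncard = 6 ∧
      ∀ v : GolayPt → ZMod 2, w - v ∈ golayCode → hammingNorm v ≤ 4 → hammingNorm v = 4) := by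
  have hn : ∀ S : Set Word, (posMap ⁻¹' S).ncard = S.ncard := fun S =>
    Set.ncard_preimage_of_injective_subset_range posMap.injective fun x _ => posMap.surjective x
  rw [leaders_pull, hn]
  rcases coset_leaders good_posCode (posMap w) with ⟨u, hu, h3⟩ | ⟨h6, hall⟩
  · refine Or.inl ⟨by rw [hu, Set.ncard_singleton], posMap.symm u, ?_, ?_⟩
    · rwa [← norm_posMap, LinearEquiv.apply_symm_apply]
    · have : u ∈ {u : Word | u - posMap w ∈ posCode ∧ hammingNorm u ≤ 4} := by rw [hu]; rfl
      rw [← mem_posCode, map_sub, LinearEquiv.apply_symm_apply, ← Submodule.neg_mem_iff, neg_sub]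
      exact this.1
  · refine Or.inr ⟨h6, fun v hv h4 => ?_⟩
    rw [← norm_posMap]
    refine (hall (posMap v) ⟨?_, by rwa [norm_posMap]⟩).1
    rw [← map_sub, mem_posCode, ← Submodule.neg_mem_iff, neg_sub]
    exact hv

/-- The punctured word. -/
def punct (c : ℕ) : ZMod 23 → ZMod 2 := fun x => vec (word c) (some x)

theorem norm_punct (c : ℕ) : hammingNorm (punct c) = wt 23 (word c) := by
  rw [← card_range_testBit 23 (word c)]
  refine Finset.card_bij (fun x _ => x.val) (fun x hx => ?_) (fun a _ b _ h => ZMod.val_injective 23 h)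
    fun i hi => ?_
  · have hx := (Finset.mem_filter.1 hx).2
    simp only [punct, vec, idx] at hx
    refine Finset.mem_filter.2 ⟨Finset.mem_range.2 (ZMod.val_lt x), ?_⟩
    by_contra h
    exact hx (if_neg h)
  · simp only [Finset.mem_filter, Finset.mem_range] at hi
    refine ⟨(i : ZMod 23), Finset.mem_filter.2 ⟨Finset.mem_univ _, ?_⟩, ?_⟩
    · simp [punct, vec, idx, ZMod.val_natCast, Nat.mod_eq_of_lt hi.1, hi.2]
    · rw [ZMod.val_natCast, Nat.mod_eq_of_lt hi.1]

theorem punct_xor (a b : ℕ) : punct (a ^^^ b) = punct a + punct b := by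
  funext x
  show vec (word (a ^^^ b)) (some x) = vec (word a) (some x) + vec (word b) (some x)
  rw [word, comb_xor, vec_xor]
  rfl

theorem punct_weights : ∀ c < 4096, c = 0 ∨ 7 ≤ wt 23 (word c) :=
  forall_lt_4096 (by decide +kernel)

theorem punct_inj {a b : ℕ} (ha : a < 4096) (hb : b < 4096) (h : punct a = punct b) : a = b := by
  have h0 : hammingNorm (punct (a ^^^ b)) = 0 := by
    rw [punct_xor, h, hammingNorm_eq_zero]
    funext x
    exact zmod2_self _
  rw [norm_punct] at h0
  rcases punct_weights _ (Nat.xor_lt_two_pow (n := 12) ha hb) with e | e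
  · exact Nat.xor_eq_zero_iff.1 e
  · omega

/-- The punctured code. -/
def punctured : Set (ZMod 23 → ZMod 2) :=
  {u | ∃ w ∈ golayCode, ∀ x : ZMod 23, u x = w (some x)}

theorem mem_punctured (u : ZMod 23 → ZMod 2) : u ∈ punctured ↔ ∃ c < 4096, punct c = u := by
  constructor
  · rintro ⟨w, hw, hu⟩
    obtain ⟨c, hc, rfl⟩ := (mem_code_iff w).1 hw
    exact ⟨c, hc, funext fun x => (hu x).symm⟩
  · rintro ⟨c, -, rfl⟩
    exact ⟨_, vec_word_mem c, fun _ => rfl⟩

theorem ncard_punctured_filter (P : ℕ → Prop) [DecidablePred P] :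
    {u | u ∈ punctured ∧ P (hammingNorm u)}.ncard =
      ((Finset.range 4096).filter fun c => P (wt 23 (word c))).card := by
  rw [← Set.ncard_coe_finset]
  symm
  refine Set.ncard_congr (fun c _ => punct c) (fun c hc => ?_) (fun a b ha hb h => ?_) fun u hu => ?_
  · simp only [Finset.coe_filter, Finset.mem_range, Set.mem_ofPred_eq] at hc
    exact ⟨(mem_punctured _).2 ⟨c, hc.1, rfl⟩, by rw [norm_punct]; exact hc.2⟩
  · simp only [Finset.coe_filter, Finset.mem_range, Set.mem_ofPred_eq] at ha hb
    exact punct_inj ha.1 hb.1 h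
  · obtain ⟨c, hc, rfl⟩ := (mem_punctured u).1 hu.1
    refine ⟨c, ?_, rfl⟩
    simp only [Finset.coe_filter, Finset.mem_range, Set.mem_ofPred_eq]
    exact ⟨hc, by rw [← norm_punct]; exact hu.2⟩

theorem ncard_punctured : punctured.ncard = 4096 := by
  have h := ncard_punctured_filter fun _ => True
  simp only [and_true, Finset.filter_true, Finset.card_range] at h
  exact h

theorem ncard_punctured_weight {n k : ℕ}
    (h : ∑ a ∈ Finset.range 64,
      ((Finset.range 64).filter fun b => wt 23 (word (64 * a + b)) = n).card = k) :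
    {u | u ∈ punctured ∧ hammingNorm u = n}.ncard = k := by
  rw [ncard_punctured_filter fun m => m = n, show (4096 : ℕ) = 64 * 64 from rfl,
    card_filter_range_mul]
  exact h

theorem punctured_min {u : ZMod 23 → ZMod 2} (hu : u ∈ punctured) (h0 : u ≠ 0) :
    7 ≤ hammingNorm u := by
  obtain ⟨c, hc, rfl⟩ := (mem_punctured u).1 hu
  rw [norm_punct]
  refine (punct_weights c hc).resolve_left fun e => h0 ?_
  subst e
  funext x
  simp [punct, word, rows, comb, vec]

theorem perfect (u : ZMod 23 → ZMod 2) :
    ∃! c : ZMod 23 → ZMod 2, c ∈ punctured ∧ hammingDist u c ≤ 3 := by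
  let w : GolayPt → ZMod 2 := fun p => p.elim 0 u
  have hpn : ∀ v : GolayPt → ZMod 2,
      hammingNorm (fun x => v (some x)) + (if v none = 0 then 0 else 1) = hammingNorm v := fun v => by
    simp only [hammingNorm, Finset.card_filter]
    rw [Fintype.sum_option, add_comm]
    congr 1
    by_cases h : v none = 0 <;> simp [h]
  obtain ⟨v, hv4, hvC, hsmall⟩ : ∃ v : GolayPt → ZMod 2, hammingNorm v ≤ 4 ∧ w - v ∈ golayCode ∧
      hammingNorm (fun x => v (some x)) ≤ 3 := by
    rcases golay_leaders w with ⟨-, v, hv, hvC⟩ | ⟨h6, hall⟩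
    · exact ⟨v, by omega, hvC, by have := hpn v; omega⟩
    by_contra hno
    simp only [not_exists, not_and, not_le] at hno
    -- otherwise six disjoint four-point supports avoid the extra point
    set L := {v : GolayPt → ZMod 2 | hammingNorm v ≤ 4 ∧ w - v ∈ golayCode}.toFinite.toFinset with hL
    have hLc : L.card = 6 := by rw [hL, ← Set.ncard_eq_toFinset_card]; exact h6
    have hmem : ∀ {v}, v ∈ L → hammingNorm v = 4 ∧ v none = 0 ∧ posMap v - posMap w ∈ posCode := by
      intro v hv
      rw [hL, Set.Finite.mem_toFinset] at hv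
      refine ⟨hall v hv.2 hv.1, ?_, ?_⟩
      · by_contra h
        have h1 := hpn v
        rw [if_neg h] at h1
        have := hno v hv.1 hv.2
        have := hv.1
        omega
      · rw [← map_sub, mem_posCode, ← Submodule.neg_mem_iff, neg_sub]; exact hv.2
    have hd : ((L : Finset (GolayPt → ZMod 2)) : Set (GolayPt → ZMod 2)).PairwiseDisjoint
        fun v => support₂ v := by
      intro a ha b hb hab
      have h := (disjoint_of_congr good_posCode
        (u := posMap a) (v := posMap b) ?_ (posMap.injective.ne hab)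
        (by rw [norm_posMap, (hmem ha).1]) (by rw [norm_posMap, (hmem hb).1])).2.2
      · rwa [supp_posMap, supp_posMap, Finset.disjoint_map] at h
      · have := posCode.sub_mem (hmem ha).2.2 (hmem hb).2.2
        rwa [sub_sub_sub_cancel_right] at this
    have hc := Finset.card_biUnion hd
    rw [Finset.sum_const_nat (m := 4) fun v hv => (hammingNorm_eq v).symm.trans (hmem hv).1, hLc] at hc
    have hsub : (L.biUnion fun v => support₂ v) ⊆ Finset.univ.erase none := fun p hp => by
      obtain ⟨v, hv, hp⟩ := Finset.mem_biUnion.1 hp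
      refine Finset.mem_erase.2 ⟨?_, Finset.mem_univ p⟩
      rintro rfl
      simp only [support₂, Finset.mem_filter, (hmem hv).2.1] at hp
      exact hp.2 rfl
    have := Finset.card_le_card hsub
    rw [Finset.card_erase_of_mem (Finset.mem_univ _), Finset.card_univ, card_golayPt] at this
    omega
  refine ⟨fun x => (w - v) (some x), ⟨⟨w - v, hvC, fun _ => rfl⟩, ?_⟩, ?_⟩
  · refine le_trans (le_of_eq (congrArg Finset.card (Finset.filter_congr fun x _ => ?_))) hsmall
    simp only [Pi.sub_apply, w, Option.elim_some, ne_eq]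
    exact not_congr ⟨fun h => sub_eq_self.1 h.symm, fun h => by rw [h, sub_zero]⟩
  · rintro c ⟨hc, hd⟩
    by_contra hne
    have hdist : hammingDist c (fun x => (w - v) (some x)) ≤ 6 := by
      refine (hammingDist_triangle_left _ _ u).trans ?_
      have : hammingDist u (fun x => (w - v) (some x)) ≤ 3 := by
        refine le_trans (le_of_eq (congrArg Finset.card (Finset.filter_congr fun x _ => ?_))) hsmall
        simp only [Pi.sub_apply, w, Option.elim_some, ne_eq]
        exact not_congr ⟨fun h => sub_eq_self.1 h.symm, fun h => by rw [h, sub_zero]⟩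
      omega
    obtain ⟨a, ha, hca⟩ := hc
    have hmem : c - (fun x => (w - v) (some x)) ∈ punctured :=
      ⟨a - (w - v), golayCode.sub_mem ha hvC, fun x => by
        simp only [Pi.sub_apply, hca x]⟩
    have h7 := punctured_min hmem (sub_ne_zero.2 hne)
    have heq : hammingDist c (fun x => (w - v) (some x)) =
        hammingNorm (c - fun x => (w - v) (some x)) :=
      congrArg Finset.card (Finset.filter_congr fun x _ => sub_ne_zero.symm)
    omega

end CfsgLib.Code24
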