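/-
Blocks of a Steiner system S(5,8,24) meeting a three-element set.
-/
import Cfsg.Agent.Steiner.Numbers

set_option autoImplicit false

namespace CfsgLib.Code24

open Finset CfsgLib.Steiner

theorem three_set_counts {α : Type*} [Fintype α] [DecidableEq α] (hα : Fintype.card α = 24)
    {B : Set (Finset α)} (hB : Cfsg.IsSteinerSystem 5 8 B) {Y : Finset α} (hY : Y.card = 3) :
    {b : Finset α | b ∈ B ∧ (b ∩ Y).card = 3}.ncard = 21 ∧
      {b : Finset α | b ∈ B ∧ (b ∩ Y).card = 2}.ncard = 168 ∧
      {b : Finset α | b ∈ B ∧ (b ∩ Y).card = 1}.ncard = 360 ∧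
      {b : Finset α | b ∈ B ∧ (b ∩ Y).card = 0}.ncard = 210 := by
  have hlt : ∀ c ∈ blocks B, (Y ∩ c).card < 4 := fun c _ =>
    Nat.lt_succ_of_le ((card_le_card inter_subset_left).trans hY.le)
  have hset : ∀ j, {b : Finset α | b ∈ B ∧ (b ∩ Y).card = j}.ncard = meet (blocks B) Y j := fun j => by
    rw [meet, ← Set.ncard_coe_finset]
    refine congrArg Set.ncard (Set.ext fun b => ?_)
    simp [mem_blocks, inter_comm]
  have h0 := moment hB (i := 0) (n := 759) (by norm_num) (by rw [hα]; decide) (by decide) Y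
  have h1 := moment hB (i := 1) (n := 253) (by norm_num) (by rw [hα]; decide) (by decide) Y
  have h2 := moment hB (i := 2) (n := 77) (by norm_num) (by rw [hα]; decide) (by decide) Y
  have h3 := moment hB (i := 3) (n := 21) (by norm_num) (by rw [hα]; decide) (by decide) Y
  rw [hY, sum_meet hlt (fun j => j.choose 0)] at h0
  rw [hY, sum_meet hlt (fun j => j.choose 1)] at h1
  rw [hY, sum_meet hlt (fun j => j.choose 2)] at h2
  rw [hY, sum_meet hlt (fun j => j.choose 3)] at h3
  simp only [sum_range_succ, sum_range_zero] at h0 h1 h2 h3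
  norm_num [Nat.choose] at h0 h1 h2 h3
  rw [hset, hset, hset, hset]
  omega

end CfsgLib.Code24
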